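import Mathlib
import Cfsg.Agent.Lib.Helper1.StemZP7
import Cfsg.Agent.Lib.Helper5.C3MD.C3Ap2R0
import Cfsg.Agent.Lib.Helper5.C3MD.C3Ap2Y0_0
import Cfsg.Agent.Lib.Helper5.C3MD.C3Ap2Y0_1
import Cfsg.Agent.Lib.Helper5.C3MD.C3Ap2Y0_2
import Cfsg.Agent.Lib.Helper5.C3MD.C3Ap2Y0_3

set_option autoImplicit false
set_option maxRecDepth 100000
set_option maxHeartbeats 8000000

/-! Certificate C3Ap2 for the prime 2. -/

namespace Cfsg.Agent.Lib.Helper5.C3MD

open Cfsg.Agent.Lib.Helper1

def specNC3Ap2 : ℕ := 0x8004ad4aa49648647947647446646145f44b43e42c42642341c41a41841440e40d4094063df3bc3a63a539739538c38437b36a36235d35835634c34734233433233032e32d32a32932832732132031731630574672c71971470f70262562460860660455b55355053c4e949e49548f47746744c44543443343042e42841d41941641541240b40a4083d138635a33e33132c32332231d31c31130f30728173b72a70860054152852051450c50045643c42441341140f38937735535134531a30e30d30b30930630330230175274b73172971f71770b70970770370060f60553b53051b51851750850450243a42241b40740540440336633c33533332631f31e30425723321b74870e70a70551651241e40240030a30023122721f20b20971271170151f50f50e50b50750621320d2071e31a470450350140120f2032011b91721121a516e12220016916415b15915014d13713513012810e18612e12c12a12612411e11811410a116110108104106102100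

def unkNC3Ap2 : ℕ := 0x797c9e3f1787c1dfef777b9dbed767b1d7eb757a9d3e9747a1cfe773797cae3f1b8bc4e1f0b81bfdf6f779bbdd6e771b7db6d769b2d86bb5bacd5eab51a7d369749a2d0e833f9dce6672d95ca64f2591c5e2b1187c36170982c05fefd7bbd5e2ef75b9dcae36fb759ecb64b1d8ac35bad566b157aad4ea350a65268941a04fa79379b4ca612e96ca64b1f8f46e170977bb9daec75ba9d2e873b99c8e371385c0df6f375b8db6cb61acd56a34da4d16733598cb6532590c76331186c260b017ebe5eaed74b95c2d968b3592b95aac55aa952a853a9948a351285409e4e26d309649a451a8c45a29128742a110682401fcf278391c4de6b3419ccc6531988bc5d29948a24b2511c8a431f8f878391a8d066321489c4a1c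

def colNC3Ap2 : ℕ := 0xf7f6f5f4f3f2f1f0efeeedecebeae9e8e7e6e5e4e3e2e1e0df00dedd0000dcdbdad9d8d700d6d5d4d3d2d1d0cfcecdcccbca00c900c800c7c6c5c4c300c2c1c0bfbe00bdbcbbba00b9b80000b70000b6b5b4b3b2b10000000000b0af00aeadacabaa00a900a8a7a60000a5a400a3a200a100a09f9e009d9c0000000000009b009a99989796000000000095949392910090008f008e8d0000008c00008b000000008a00008988008700860000000085840000008300820081800000007f0000007e00000000007d7c00007b0000000000000000000000000000007a0079000000000000000000000000000000000000000000000000007877767574737271706f006e6d6c6b6a6968676665006463006261605f5e5d00005c5b5a59585756555400535251504f4e4d4c004b4a4948004700464544000000434241403f3e3d3c3b003a3938373600350034330000320031000030002f0000002e2d2c2b2a00290028272625002423000000000022210000000000201f001e0000001d00001c1b1a1900181700000016150000000000000000001413120000000000111000000f000e000d0000000c0b000a000009000000080706050000000000000000040003000200000000000000000100000000000000000000000000000000000000000000000000000000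

def trC3Ap2_0 : List (List ((ℕ × ℕ) × ℕ) × ℕ × ℕ) := [(ysC3Ap2_0_0, LC3Ap2_0_0, TC3Ap2_0_0), (ysC3Ap2_0_1, LC3Ap2_0_1, TC3Ap2_0_1), (ysC3Ap2_0_2, LC3Ap2_0_2, TC3Ap2_0_2), (ysC3Ap2_0_3, LC3Ap2_0_3, TC3Ap2_0_3)]

def relC3Ap2 : List (List ((ℕ × ℕ) × ℕ)) := [(trC3Ap2_0.map fun t => t.1).flatten]

/-- the certificate -/
def CC3Ap2 : StemZP.ZRCert where
  p := 2
  s := 2
  w := 5
  N := 247
  β := 1
  hmR := 30
  hmQ := 16
  bs := [477]
  es := [1]
  specs := fun i => ((specNC3Ap2 >>> (12 * i)) % 2 ^ 12 / 2 ^ 8, (specNC3Ap2 >>> (12 * i)) % 2 ^ 8)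
  unk := fun c => (unkNC3Ap2 >>> (9 * c)) % 2 ^ 9
  colT := fun b => (colNC3Ap2 >>> (8 * b)) % 2 ^ 8
  R := fun c => if c < 247 then (RLC3Ap2_0.getD ((c - 0) / 32) []).getD ((c - 0) % 32) 0 else 0
  rel := relC3Ap2

end Cfsg.Agent.Lib.Helper5.C3MD
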