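import Mathlib
import Cfsg.Agent.Lib.Helper5.C3MD.C3Ap2H
import Cfsg.Agent.Lib.Helper5.C3MD.C3Ap2K0_0
import Cfsg.Agent.Lib.Helper5.C3MD.C3Ap2K0_1
import Cfsg.Agent.Lib.Helper5.C3MD.C3Ap2K0_2
import Cfsg.Agent.Lib.Helper5.C3MD.C3Ap2K0_3

set_option autoImplicit false
set_option maxRecDepth 100000
set_option maxHeartbeats 8000000

/-! Certificate C3Ap2: the checks of the combinations modulo 4 and the full certificate. -/

namespace Cfsg.Agent.Lib.Helper5.C3MD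

open Cfsg.Agent.Lib.Helper1

open Cfsg.Agent.Lib.Helper6.Mult StemZP

theorem chunksC3Ap2_0 : ∀ t ∈ trC3Ap2_0, chunkOK DC3Ap2 4 t.1 t.2.1 t.2.2 = true := by
  intro t ht
  simp only [trC3Ap2_0, List.mem_cons, List.not_mem_nil, or_false] at ht
  rcases ht with rfl | rfl | rfl | rfl
  · exact chunkC3Ap2_0_0
  · exact chunkC3Ap2_0_1
  · exact chunkC3Ap2_0_2
  · exact chunkC3Ap2_0_3

theorem hTC3Ap2_0 : (trC3Ap2_0.map fun t => t.2.2).sum < StemZD.X := by decide +kernel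

theorem hdigC3Ap2_0 : ((List.range DC3Ap2.n).all fun c =>
    (trC3Ap2_0.map fun t => t.2.1).sum / StemZD.X ^ c % StemZD.X % 4 == if c = 477 then 2 else 0) = true := by
  decide +kernel

theorem chk_relC3Ap2_0 : chkRel DC3Ap2 CC3Ap2.toP (trC3Ap2_0.map fun t => t.1).flatten 477 1 = true :=
  chkRel_of_chunks DC3Ap2 CC3Ap2.toP trC3Ap2_0 477 1 chunksC3Ap2_0 hTC3Ap2_0 hdigC3Ap2_0

theorem chk_certC3Ap2 : chkCertR DC3Ap2 CC3Ap2 = true := by
  apply chkCertR_of_main DC3Ap2 CC3Ap2 chk_mainC3Ap2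
  show (List.range 1).all _ = true
  have e : List.range 1 = [0] := rfl
  rw [e]
  simp only [List.all_cons, List.all_nil, Bool.and_true, Bool.and_eq_true]
  exact chk_relC3Ap2_0

end Cfsg.Agent.Lib.Helper5.C3MD
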