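import Cfsg.Agent.Lib.Helper5.C3M2b
import Cfsg.Agent.Lib.Helper6.Mult.PM2

set_option autoImplicit false
set_option maxRecDepth 100000

/-! # The third Conway group: the models of the centralizer `2.S6(2)` of an involution and of its subgroup `U3(3)` -/

namespace Cfsg.Agent.Lib.Helper5.C3MD

open Cfsg.Agent.Lib.Helper6.TC Cfsg.Agent.Lib.Helper6.PM

/-- the two generators of the subgroup, as letters of the straight line program -/
def wsY2 : List (List ℕ) := [[24], [25]]

/-- the tables of the two generators -/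
def pmY2 (i q : ℕ) : ℕ := Cfsg.Agent.Lib.Helper5.C3M2.pm (bif Nat.beq i 0 then 24 else 25) q

theorem chk_tabY2_0 : chkTab Cfsg.Agent.Lib.Helper5.C3M2.M wsY2 pmY2 0 = true := by decide +kernel

theorem chk_tabY2_1 : chkTab Cfsg.Agent.Lib.Helper5.C3M2.M wsY2 pmY2 1 = true := by decide +kernel

theorem tabY2 : TabFacts Cfsg.Agent.Lib.Helper5.C3M2.M wsY2 pmY2 := by
  apply tabFacts_of_chk
  intro i hi
  have h' : i < 2 := hi
  interval_cases i
  · exact chk_tabY2_0
  · exact chk_tabY2_1

/-- the model of the centralizer `2.S6(2)` of an involution -/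
noncomputable def c3y2 : PModel := sub Cfsg.Agent.Lib.Helper5.C3M2.M wsY2 pmY2 tabY2

/-- the two generators of the subgroup `U3(3)`, as words in the two generators -/
def wsK2 : List (List ℕ) := [[0, 0, 1, 0, 1, 1, 0, 0, 0, 0, 0], [0, 1, 1, 0, 0, 0, 1, 1, 0, 1, 0, 1]]

/-- the tables of the two generators of the subgroup `U3(3)` -/
def pmK2 (i q : ℕ) : ℕ := Cfsg.Agent.Lib.Helper5.C3M2.pm (bif Nat.beq i 0 then 178 else 179) q

theorem chk_tabK2_0 : chkTab c3y2 wsK2 pmK2 0 = true := by decide +kernel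

theorem chk_tabK2_1 : chkTab c3y2 wsK2 pmK2 1 = true := by decide +kernel

theorem tabK2 : TabFacts c3y2 wsK2 pmK2 := by
  apply tabFacts_of_chk
  intro i hi
  have h' : i < 2 := hi
  interval_cases i
  · exact chk_tabK2_0
  · exact chk_tabK2_1

/-- the model of the subgroup `U3(3)` -/
noncomputable def c3k2 : PModel := sub c3y2 wsK2 pmK2 tabK2

end Cfsg.Agent.Lib.Helper5.C3MD
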