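import Cfsg.Agent.Lib.Helper6.Mult.PM3
import Cfsg.Agent.Lib.Helper5.C3MD.Models2
import Cfsg.Agent.Lib.Helper5.C3MD.C3Ap2D

set_option autoImplicit false
set_option maxRecDepth 100000

/-! The third Conway group: the centralizer `2.S6(2)` of an involution on 240 points, data C3Ap2: the checks of the generators. -/

namespace Cfsg.Agent.Lib.Helper5.C3MD

open Cfsg.Agent.Lib.Helper6.PM Cfsg.Agent.Lib.Helper1

theorem chk_tabC3Ap2_0 : chkTab c3y2 wsC3Ap2 pmC3Ap2 0 = true := by decide +kernel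

theorem chk_tabC3Ap2_1 : chkTab c3y2 wsC3Ap2 pmC3Ap2 1 = true := by decide +kernel

theorem chk_relPC3Ap2_0 : chkRelP c3y2 DC3Ap2 pmC3Ap2 0 = true := by decide +kernel

theorem chk_relPC3Ap2_1 : chkRelP c3y2 DC3Ap2 pmC3Ap2 1 = true := by decide +kernel

theorem chk_relPC3Ap2_2 : chkRelP c3y2 DC3Ap2 pmC3Ap2 2 = true := by decide +kernel

theorem chk_relPC3Ap2_3 : chkRelP c3y2 DC3Ap2 pmC3Ap2 3 = true := by decide +kernel

theorem chk_relPC3Ap2_4 : chkRelP c3y2 DC3Ap2 pmC3Ap2 4 = true := by decide +kernel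

theorem chk_relPC3Ap2_5 : chkRelP c3y2 DC3Ap2 pmC3Ap2 5 = true := by decide +kernel

theorem chk_ordPC3Ap2_0 : chkOrdP c3y2 DC3Ap2 pmC3Ap2 0 = true := by decide +kernel

theorem chk_ordPC3Ap2_1 : chkOrdP c3y2 DC3Ap2 pmC3Ap2 1 = true := by decide +kernel

theorem chk_lwPC3Ap2_0 : chkLwP c3y2 wsC3Ap2 pmC3Ap2 lwC3Ap2 0 = true := by decide +kernel

theorem chk_lwPC3Ap2_1 : chkLwP c3y2 wsC3Ap2 pmC3Ap2 lwC3Ap2 1 = true := by decide +kernel

theorem coreC3Ap2 : CoreFacts c3y2 DC3Ap2 wsC3Ap2 pmC3Ap2 lwC3Ap2 := by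
  apply coreFacts_of_chk
  · rfl
  · intro i hi
    have h' : i < 2 := hi
    interval_cases i
    · exact chk_tabC3Ap2_0
    · exact chk_tabC3Ap2_1
  · intro r hr
    have h' : r < 6 := hr
    interval_cases r
    · exact chk_relPC3Ap2_0
    · exact chk_relPC3Ap2_1
    · exact chk_relPC3Ap2_2
    · exact chk_relPC3Ap2_3
    · exact chk_relPC3Ap2_4
    · exact chk_relPC3Ap2_5
  · intro i hi
    have h' : i < 2 := hi
    interval_cases i
    · exact chk_ordPC3Ap2_0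
    · exact chk_ordPC3Ap2_1
  · intro c hc
    have h' : c < 2 := hc
    interval_cases c
    · exact chk_lwPC3Ap2_0
    · exact chk_lwPC3Ap2_1

theorem chk_ptsC3Ap2 : chkPts c3y2 DC3Ap2 wsC3Ap2 pmC3Ap2 PLC3Ap2 PLIC3Ap2 = true := by decide +kernel

end Cfsg.Agent.Lib.Helper5.C3MD
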