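import Mathlib
import Cfsg.Agent.Lib.Helper1.StemZP7
import Cfsg.Agent.Lib.Helper5.C3MD.C3Ap3R0

set_option autoImplicit false
set_option maxRecDepth 100000
set_option maxHeartbeats 8000000

/-! Certificate C3Ap3 for the prime 3. -/

namespace Cfsg.Agent.Lib.Helper5.C3MD

open Cfsg.Agent.Lib.Helper1

def specNC3Ap3 : ℕ := 0x35033b33a32631931330874973672971f71471070a52f50a4003df3d13bf3b53a739838235d35b34a34333d33832b32830d72d50d5024033d63a63a339c39738737936035535134433c33733232131e31830b30773471d70f70d70b53c5095013b73a239437d37136135434734633132c31d31430c3093057427287117065063de3b439a38636b3663563243113107637187127047027003e83c93a834e34b34032031c31b30f30630470770570150450034132f31f30270c64332932230064b62f37831230a30370e7086c167565b51650731730e65f64764563b62560a3017de65465364d63963162d62962161a6196156082e662461d61861761661461360f60760460123d68162c62a62260e6066031a418064463062662060b60960260028923423122c25b24a2182131b71b314b14327423622a22121a20920515314e13c13912711022e20f20d20b2072031bf17915a15814713f12412011711221120012b12912611410a10220115f11e11d10e106104100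

def unkNC3Ap3 : ℕ := 0x1eaf4fa3cfe6f2f93c7e2f0f83bfdeeef73b7daecf63afd6eaf53a7d2e8f439fcde672f93c8e3f1b8bc4e1f0b83bfdf6f779bbdd6e771b7da6cf65b0d7ebb5baad4ea34fa6d2e9345a1d067f399bcce5f2d94c9e4b2390c7e3b1b8ac4e1f0b83c0e02f97bbd5e2ed70b7daad368b3596c963b0d82bf5eaed66b154a95429f4ea6d2e9146a250e813b9bcda653091c8a1f0d863c9e2f077bb5d8eb753a5d0e773391c6e270b81bede6eb71b6da6cb61acd56a349a0ce66b3194c76331586c260afd7cbd5e2ed74b95c2d96ab258ab558ab552a14ea65228d44a1502793a9c4ca612e964aa4d248f46a31168943a190a8441200fe7b3d1d8ea74399c0de6e369a8d06732988c05226124863b1c0dc6a32170a846210c8501e0a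

def colNC3Ap3 : ℕ := 0xf9f8f7f6f5f4f3f2f1f0efeeedecebeae9e8e7e6e5e4e3e2e1e0dfde00dddcdb00dad9d8d7d6d5d4d3d200d1d0cfcecdcccbcac90000c8c7c600c5c4c3c20000c1c0bfbebdbcbb00bab9b8b70000b6b500b400b3b200b1b0afaeadacabaa0000a9a800a700a600a500a4a3000000a2a1a0009f009e00000000009d9c000000009b9a9900989796950094939291900000008f8e0000008d008c008b8a8988008700008600850084830000820000000081000000807f0000007e007d0000000000000000000000007c7b0000000000000000000000000000000000007a007978000000000000000000000000000000000000000000000000007776757400737271706f6e6d6c006b6a696867666564636261605f005e5d5c005b005a005958570056000055545300525150004f4e4d4c4b4a49480047460000454400000043424140003f3e3d003c3b3a39380037363500003433323130002f2e00002d002c2b2a00290028272625002400232200000021200000001f1e1d1c00001b1a191800001700161500140000130012000000000000000000000000001100000000001000000f00000000000e000000000000000d00000c0b000a0000090000000800000007000000000000060005000000000000000400000000030000000002000000000100000000000000000000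

def relC3Ap3 : List (List ((ℕ × ℕ) × ℕ)) := []

/-- the certificate -/
def CC3Ap3 : StemZP.ZRCert where
  p := 3
  s := 2
  w := 6
  N := 249
  β := 3
  hmR := 60
  hmQ := 48
  bs := []
  es := []
  specs := fun i => ((specNC3Ap3 >>> (12 * i)) % 2 ^ 12 / 2 ^ 8, (specNC3Ap3 >>> (12 * i)) % 2 ^ 8)
  unk := fun c => (unkNC3Ap3 >>> (9 * c)) % 2 ^ 9
  colT := fun b => (colNC3Ap3 >>> (8 * b)) % 2 ^ 8
  R := fun c => if c < 249 then (RLC3Ap3_0.getD ((c - 0) / 32) []).getD ((c - 0) % 32) 0 else 0
  rel := relC3Ap3

end Cfsg.Agent.Lib.Helper5.C3MD
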