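import Cfsg.Agent.Lib.Helper5.C3M3b
import Cfsg.Agent.Lib.Helper6.Mult.PM2

set_option autoImplicit false
set_option maxRecDepth 100000

/-! # The third Conway group: the models of the normalizer `3^5:(2 × M11)` of an elementary abelian subgroup and of its subgroup `M11` -/

namespace Cfsg.Agent.Lib.Helper5.C3MD

open Cfsg.Agent.Lib.Helper6.TC Cfsg.Agent.Lib.Helper6.PM

/-- the two generators of the subgroup, as letters of the straight line program -/
def wsY3 : List (List ℕ) := [[24], [25]]

/-- the tables of the two generators -/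
def pmY3 (i q : ℕ) : ℕ := Cfsg.Agent.Lib.Helper5.C3M3.pm (bif Nat.beq i 0 then 24 else 25) q

theorem chk_tabY3_0 : chkTab Cfsg.Agent.Lib.Helper5.C3M3.M wsY3 pmY3 0 = true := by decide +kernel

theorem chk_tabY3_1 : chkTab Cfsg.Agent.Lib.Helper5.C3M3.M wsY3 pmY3 1 = true := by decide +kernel

theorem tabY3 : TabFacts Cfsg.Agent.Lib.Helper5.C3M3.M wsY3 pmY3 := by
  apply tabFacts_of_chk
  intro i hi
  have h' : i < 2 := hi
  interval_cases i
  · exact chk_tabY3_0
  · exact chk_tabY3_1

/-- the model of the normalizer `3^5:(2 × M11)` of an elementary abelian subgroup -/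
noncomputable def c3y3 : PModel := sub Cfsg.Agent.Lib.Helper5.C3M3.M wsY3 pmY3 tabY3

/-- the two generators of the subgroup `M11`, as words in the two generators -/
def wsK3 : List (List ℕ) := [[1, 0, 1, 1, 1], [1, 0, 0, 0, 1, 0, 0, 1, 0, 1, 0]]

/-- the tables of the two generators of the subgroup `M11` -/
def pmK3 (i q : ℕ) : ℕ := Cfsg.Agent.Lib.Helper5.C3M3.pm (bif Nat.beq i 0 then 167 else 168) q

theorem chk_tabK3_0 : chkTab c3y3 wsK3 pmK3 0 = true := by decide +kernel

theorem chk_tabK3_1 : chkTab c3y3 wsK3 pmK3 1 = true := by decide +kernel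

theorem tabK3 : TabFacts c3y3 wsK3 pmK3 := by
  apply tabFacts_of_chk
  intro i hi
  have h' : i < 2 := hi
  interval_cases i
  · exact chk_tabK3_0
  · exact chk_tabK3_1

/-- the model of the subgroup `M11` -/
noncomputable def c3k3 : PModel := sub c3y3 wsK3 pmK3 tabK3

end Cfsg.Agent.Lib.Helper5.C3MD
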