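import Cfsg.Agent.Lib.Helper6.Mult.PM3
import Cfsg.Agent.Lib.Helper5.C3MD.Models3
import Cfsg.Agent.Lib.Helper5.C3MD.C3Ap3D

set_option autoImplicit false
set_option maxRecDepth 100000

/-! The third Conway group: the normalizer `3^5:(2 × M11)` of an elementary abelian subgroup on 243 points, data C3Ap3: the checks of the generators. -/

namespace Cfsg.Agent.Lib.Helper5.C3MD

open Cfsg.Agent.Lib.Helper6.PM Cfsg.Agent.Lib.Helper1

theorem chk_tabC3Ap3_0 : chkTab c3y3 wsC3Ap3 pmC3Ap3 0 = true := by decide +kernel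

theorem chk_tabC3Ap3_1 : chkTab c3y3 wsC3Ap3 pmC3Ap3 1 = true := by decide +kernel

theorem chk_relPC3Ap3_0 : chkRelP c3y3 DC3Ap3 pmC3Ap3 0 = true := by decide +kernel

theorem chk_relPC3Ap3_1 : chkRelP c3y3 DC3Ap3 pmC3Ap3 1 = true := by decide +kernel

theorem chk_relPC3Ap3_2 : chkRelP c3y3 DC3Ap3 pmC3Ap3 2 = true := by decide +kernel

theorem chk_relPC3Ap3_3 : chkRelP c3y3 DC3Ap3 pmC3Ap3 3 = true := by decide +kernel

theorem chk_relPC3Ap3_4 : chkRelP c3y3 DC3Ap3 pmC3Ap3 4 = true := by decide +kernel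

theorem chk_ordPC3Ap3_0 : chkOrdP c3y3 DC3Ap3 pmC3Ap3 0 = true := by decide +kernel

theorem chk_ordPC3Ap3_1 : chkOrdP c3y3 DC3Ap3 pmC3Ap3 1 = true := by decide +kernel

theorem chk_lwPC3Ap3_0 : chkLwP c3y3 wsC3Ap3 pmC3Ap3 lwC3Ap3 0 = true := by decide +kernel

theorem chk_lwPC3Ap3_1 : chkLwP c3y3 wsC3Ap3 pmC3Ap3 lwC3Ap3 1 = true := by decide +kernel

theorem coreC3Ap3 : CoreFacts c3y3 DC3Ap3 wsC3Ap3 pmC3Ap3 lwC3Ap3 := by
  apply coreFacts_of_chk
  · rfl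
  · intro i hi
    have h' : i < 2 := hi
    interval_cases i
    · exact chk_tabC3Ap3_0
    · exact chk_tabC3Ap3_1
  · intro r hr
    have h' : r < 5 := hr
    interval_cases r
    · exact chk_relPC3Ap3_0
    · exact chk_relPC3Ap3_1
    · exact chk_relPC3Ap3_2
    · exact chk_relPC3Ap3_3
    · exact chk_relPC3Ap3_4
  · intro i hi
    have h' : i < 2 := hi
    interval_cases i
    · exact chk_ordPC3Ap3_0
    · exact chk_ordPC3Ap3_1
  · intro c hc
    have h' : c < 2 := hc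
    interval_cases c
    · exact chk_lwPC3Ap3_0
    · exact chk_lwPC3Ap3_1

theorem chk_ptsC3Ap3 : chkPts c3y3 DC3Ap3 wsC3Ap3 pmC3Ap3 PLC3Ap3 PLIC3Ap3 = true := by decide +kernel

end Cfsg.Agent.Lib.Helper5.C3MD
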