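import Mathlib
import Cfsg.Agent.Lib.Helper1.StemZP7
import Cfsg.Agent.Lib.Helper5.C3MD.C3Bp2R0

set_option autoImplicit false
set_option maxRecDepth 100000
set_option maxHeartbeats 8000000

/-! Certificate C3Bp2 for the prime 2. -/

namespace Cfsg.Agent.Lib.Helper5.C3MD

open Cfsg.Agent.Lib.Helper1

def specNC3Bp2 : ℕ := 0x5037036634113c136935d35a35735635134e34b34734534334033b33a33432a32832631d31b31831630d30a69967967265f64264062f60041a40240140038d38438037e37937236a36035234834633f33e33633132d32c32b32732131f31231067b65864a63e63162d62761861460f60740b40435b35433833333032f32532031431130f17c63863361160b60960140335f34233731731530c30b30930830618317816d15962360560331a31330730530430330116614314112e11d11b30e3023002d52d22c32bd2bb2b82a229528226e24f21620718114b14513b13413212812412211210a2c62ba2b12ad2a92a729829729228f28427e27427126826326125d25a25625325124e24824624224023e23a23522f22d22b22120f11911711511010c1081022b32a028b27626b25f24a24423c23823623322a22922522321f21e21c21a21821421321120e20d20b209205203201200106104100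

def unkNC3Bp2 : ℕ := 0x389c3e170781bfdf6f779bbdd6e771b7db6d769b2d8ec35faed6eb357aad4ea34ba4d1e8b439fcf677399bcc65f2d95ca64b218fc7633178ac36130782c0dfefb7cbddeaf177bb5d6e973b85badb6cb55a6d167b3596c963b1586c15faed72b758abd56a752a7d3a9b4ca55268f45a250a7d3b9ccda6b34994c25f2e96cb24b218ec6e250e86c2e1107813f5eef6783a9cee66fb79badc6db69b2d86bb59aad469b49a2d067b399acc65b2992c863b198ac461b0580bf5f2f176ba5cadd64b1582bd5cad562ad54a95429d4ca15027936994c25d2c9549a49208e4622d1086401f8f4793c1d4e66f371b0d6693418cc25b2d160ae53279349244211047e3c1b0bc5822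

def colNC3Bp2 : ℕ := 0xe6e5e4e3e2e1e0dfdedddcdbdad9d8d7d600d5d4d3d2d1d0cfcecdcccb0000cac9c8c7c600c5c4c3c2c10000c0bfbebdbc00bb00bab9b800b7b6b5000000b400b3b2b1b000af00aeadacab00aaa9a8a7a6a50000a400a3a2a100a09f9e9d9c9b9a99989796950094939200009190008f008e8d00008c8b8a890088870086008584008300000082000081008000007f7e7d007c007b7a79787700000000000076000000750000007400730000000000000000720000007170006f00006e6d000000006c000000006b00000000006a690000000000680000000000670000666500000000000064636261605f5e5d5c5b5a595857565554535251504f4e4d4c4b4a494800474645440043424140003f000000003e3d3c3b3a3938373635343332000000003130002f00002e002d2c2b2a29002827002600250024230000220021000000000020001f0000001e1d1c00001b001a00000019180017160015140000000013001200000000001110000f0e0000000d0000000c000b0000000a00000000090008070006000005000000000004000000000000030000020000000000000000000100000000000000000000000000000000000000000000000000000000000000000000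

def relC3Bp2 : List (List ((ℕ × ℕ) × ℕ)) := []

/-- the certificate -/
def CC3Bp2 : StemZP.ZRCert where
  p := 2
  s := 2
  w := 5
  N := 230
  β := 1
  hmR := 30
  hmQ := 16
  bs := []
  es := []
  specs := fun i => ((specNC3Bp2 >>> (12 * i)) % 2 ^ 12 / 2 ^ 8, (specNC3Bp2 >>> (12 * i)) % 2 ^ 8)
  unk := fun c => (unkNC3Bp2 >>> (9 * c)) % 2 ^ 9
  colT := fun b => (colNC3Bp2 >>> (8 * b)) % 2 ^ 8
  R := fun c => if c < 230 then (RLC3Bp2_0.getD ((c - 0) / 32) []).getD ((c - 0) % 32) 0 else 0
  rel := relC3Bp2

end Cfsg.Agent.Lib.Helper5.C3MD
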