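import Cfsg.Agent.Lib.Helper6.Mult.PM3
import Cfsg.Agent.Lib.Helper5.C3MD.Models2
import Cfsg.Agent.Lib.Helper5.C3MD.C3Bp2D

set_option autoImplicit false
set_option maxRecDepth 100000

/-! The third Conway group: the subgroup `U3(3)` on 224 sets, data C3Bp2: the checks of the generators. -/

namespace Cfsg.Agent.Lib.Helper5.C3MD

open Cfsg.Agent.Lib.Helper6.PM Cfsg.Agent.Lib.Helper1

theorem chk_tabC3Bp2_0 : chkTab c3k2 wsC3Bp2 pmC3Bp2 0 = true := by decide +kernel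

theorem chk_tabC3Bp2_1 : chkTab c3k2 wsC3Bp2 pmC3Bp2 1 = true := by decide +kernel

theorem chk_relPC3Bp2_0 : chkRelP c3k2 DC3Bp2 pmC3Bp2 0 = true := by decide +kernel

theorem chk_relPC3Bp2_1 : chkRelP c3k2 DC3Bp2 pmC3Bp2 1 = true := by decide +kernel

theorem chk_relPC3Bp2_2 : chkRelP c3k2 DC3Bp2 pmC3Bp2 2 = true := by decide +kernel

theorem chk_relPC3Bp2_3 : chkRelP c3k2 DC3Bp2 pmC3Bp2 3 = true := by decide +kernel

theorem chk_relPC3Bp2_4 : chkRelP c3k2 DC3Bp2 pmC3Bp2 4 = true := by decide +kernel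

theorem chk_ordPC3Bp2_0 : chkOrdP c3k2 DC3Bp2 pmC3Bp2 0 = true := by decide +kernel

theorem chk_ordPC3Bp2_1 : chkOrdP c3k2 DC3Bp2 pmC3Bp2 1 = true := by decide +kernel

theorem chk_lwPC3Bp2_0 : chkLwP c3k2 wsC3Bp2 pmC3Bp2 lwC3Bp2 0 = true := by decide +kernel

theorem chk_lwPC3Bp2_1 : chkLwP c3k2 wsC3Bp2 pmC3Bp2 lwC3Bp2 1 = true := by decide +kernel

theorem coreC3Bp2 : CoreFacts c3k2 DC3Bp2 wsC3Bp2 pmC3Bp2 lwC3Bp2 := by
  apply coreFacts_of_chk
  · rfl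
  · intro i hi
    have h' : i < 2 := hi
    interval_cases i
    · exact chk_tabC3Bp2_0
    · exact chk_tabC3Bp2_1
  · intro r hr
    have h' : r < 5 := hr
    interval_cases r
    · exact chk_relPC3Bp2_0
    · exact chk_relPC3Bp2_1
    · exact chk_relPC3Bp2_2
    · exact chk_relPC3Bp2_3
    · exact chk_relPC3Bp2_4
  · intro i hi
    have h' : i < 2 := hi
    interval_cases i
    · exact chk_ordPC3Bp2_0
    · exact chk_ordPC3Bp2_1
  · intro c hc
    have h' : c < 2 := hc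
    interval_cases c
    · exact chk_lwPC3Bp2_0
    · exact chk_lwPC3Bp2_1


end Cfsg.Agent.Lib.Helper5.C3MD
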