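import Mathlib
import Cfsg.Agent.Lib.Helper1.StemZP7
import Cfsg.Agent.Lib.Helper5.C3MD.C3Bp3R0

set_option autoImplicit false
set_option maxRecDepth 100000
set_option maxHeartbeats 8000000

/-! Certificate C3Bp3 for the prime 3. -/

namespace Cfsg.Agent.Lib.Helper5.C3MD

open Cfsg.Agent.Lib.Helper1

def specNC3Bp3 : ℕ := 0x62061260c50043d43042641a41831030f30430012275273e73b73672f72b72571f71971671371171070e70b70a70570466b64363c63a63863763462f62361e61861460044b44343e42b42241f41441230730112c70870370270063b63062d62862761a61961160a60960845244243a43343242c42340c11e11610670761f61d60b60660560260142f41741641340e40b40a40740640440340240028f28d25020d11410e10470161760760460340840127525d25a24624424023522710c10a10810222b21f21d21520710023e23a22d22322121921721120b209200213205203201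

def unkNC3Bp3 : ℕ := 0x2492391486411f8f476391b8d46631178b4562913894461f0e86c32170a84c220f0682c1200ff7f3f1f6fa7cbe1eef67abc9e2f0763add2e873b99cae17037dbcdd6e36db4d96bb59a2d066b318ec6623057ebe5dae96cb55727d3c9d47a391a8c45a29128843a190a8441204fe7e3e9f0f67a3c9e0ec75399c8e26f371b4d86b3519ccc6532188c25e2e970b65a2c960ac5227134984b251248c45210f8783a1b8d46431180bc5c0d

def colNC3Bp3 : ℕ := 0x969594939291908f8e8d8c8b8a89888786858483008281807f7e7d7c7b7a79787700000076757400737271706f6e6d6c00006b6a69000000686700666564636200000061605f5e5d5c5b5a5900585700000000565500005453000000005251005000004f004e4d00004c4b0000004a490000000000004800000000000000000000000000004746450000000000000000000000000044434241403f3e3d3c3b3a3900383700363534333231302f002e2d002c2b2a00292827262524000023222120001f1e00001d1c1b1a19181700160000001500000014131211100f00000e0d00000c0000000b000a000900000800070000060504030200000000000000000000000000000000000000000000000000000000000000000100000000000000000000000000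

def relC3Bp3 : List (List ((ℕ × ℕ) × ℕ)) := []

/-- the certificate -/
def CC3Bp3 : StemZP.ZRCert where
  p := 3
  s := 2
  w := 6
  N := 150
  β := 3
  hmR := 60
  hmQ := 48
  bs := []
  es := []
  specs := fun i => ((specNC3Bp3 >>> (12 * i)) % 2 ^ 12 / 2 ^ 8, (specNC3Bp3 >>> (12 * i)) % 2 ^ 8)
  unk := fun c => (unkNC3Bp3 >>> (9 * c)) % 2 ^ 9
  colT := fun b => (colNC3Bp3 >>> (8 * b)) % 2 ^ 8
  R := fun c => if c < 150 then (RLC3Bp3_0.getD ((c - 0) / 32) []).getD ((c - 0) % 32) 0 else 0
  rel := relC3Bp3

end Cfsg.Agent.Lib.Helper5.C3MD
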